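import Cfsg.Agent.SP.NegS.Gen2

/-! # S5755, the Monster, odd local boxes: general lemmas (helper22) -/

set_option autoImplicit false
set_option linter.style.haveILetI false

namespace Cfsg.Agent.SP.Mon.Odd

open Subgroup Cfsg.Agent.SP

variable {G : Type*} [Group G]

/-- `A` acts by conjugation on `X`, all centralizer orders divide `c`. -/
theorem card_dvd_mul [Finite G] {A : Subgroup G} {X : Set G} (hX : ∀ a ∈ A, ∀ x ∈ X, a * x * a⁻¹ ∈ X) {c : ℕ}
    (hc : ∀ x ∈ X, Nat.card (A ⊓ centralizer ({x} : Set G) : Subgroup G) ∣ c) : Nat.card A ∣ X.ncard * c := by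
  classical
  letI : MulAction A X :=
    { smul := fun g t => ⟨g * t.1 * (g : G)⁻¹, hX g g.2 t.1 t.2⟩
      one_smul := fun t => by
        apply Subtype.ext
        change (1 : G) * t.1 * (1 : G)⁻¹ = t.1
        group
      mul_smul := fun g k t => by
        apply Subtype.ext
        change ((g : G) * k) * t.1 * ((g : G) * k)⁻¹ = g * (k * t.1 * (k : G)⁻¹) * (g : G)⁻¹
        group }
  letI : Fintype (MulAction.orbitRel.Quotient A X) := Fintype.ofFinite _
  rw [← Nat.card_coe_set_eq, Nat.card_congr (MulAction.selfEquivSigmaOrbits A X), Nat.card_sigma, Finset.sum_mul]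
  refine Finset.dvd_sum fun ω _ => ?_
  rw [Nat.card_coe_set_eq, ← MulAction.index_stabilizer, ← (MulAction.stabilizer A ω.out).index_mul_card]
  refine Nat.mul_dvd_mul_left _ (dvd_trans ?_ (hc _ ω.out.2))
  rw [← card_map_of_injective A.subtype_injective]
  refine card_dvd_of_le ?_
  rintro _ ⟨g, hg, rfl⟩
  refine ⟨g.2, mem_centralizer_singleton_iff.2 ?_⟩
  have h1 : (g : G) * ω.out.1 * (g : G)⁻¹ = ω.out.1 := congrArg Subtype.val (MulAction.mem_stabilizer_iff.1 hg)
  exact mul_inv_eq_iff_eq_mul.1 h1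

/-- `|A|` divides `(|V| - 1) c`. -/
theorem card_dvd_norm [Finite G] {A V : Subgroup G} (hAV : A ≤ normalizer (V : Set G)) {c : ℕ}
    (hc : ∀ x ∈ V, x ≠ 1 → Nat.card (centralizer ({x} : Set G)) ∣ c) : Nat.card A ∣ (Nat.card V - 1) * c := by
  have h := card_dvd_mul (A := A) (X := (V : Set G) \ {1}) (c := c)
    (fun a ha x hx => ⟨NegS.conj_mem_of_le hAV ha hx.1, NegS.conj_ne_one hx.2⟩)
    fun x hx => (card_dvd_of_le inf_le_right).trans (hc x hx.1 hx.2)
  rwa [← NegS.ncard_diff_one V, Nat.add_sub_cancel]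

/-- fibre count -/
theorem ncard_le_mul [Finite G] {H : Type*} {Y : Set G} {Z : Set H} (hZf : Z.Finite) (φ : G → H) (K : Subgroup G)
    (hZ : ∀ y ∈ Y, φ y ∈ Z) (hK : ∀ y ∈ Y, ∀ y' ∈ Y, φ y = φ y' → y⁻¹ * y' ∈ K) :
    Y.ncard ≤ Z.ncard * Nat.card K := by
  classical
  have hrep : ∀ z : H, ∃ c : G, ∀ y ∈ Y, φ y = z → c⁻¹ * y ∈ K := by
    intro z
    by_cases h : ∃ c ∈ Y, φ c = z
    · obtain ⟨c, hc, hz⟩ := h
      exact ⟨c, fun y hy e => hK c hc y hy (hz.trans e.symm)⟩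
    · exact ⟨1, fun y hy e => (h ⟨y, hy, e⟩).elim⟩
  choose c hc using hrep
  rw [← SetLike.coe_sort_coe, Nat.card_coe_set_eq, ← Set.ncard_prod]
  refine Set.ncard_le_ncard_of_injOn (fun y => (φ y, (c (φ y))⁻¹ * y))
    (fun y hy => ⟨hZ y hy, hc _ y hy rfl⟩) (fun y _ y' _ e => ?_) (hZf.prod (Set.toFinite _))
  have h1 : φ y = φ y' := congrArg Prod.fst e
  have h2 : (c (φ y))⁻¹ * y = (c (φ y'))⁻¹ * y' := congrArg Prod.snd e
  rw [h1] at h2
  exact mul_left_cancel h2

/-- the size of a conjugacy class -/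
theorem ncard_conj [Finite G] (t : G) : {u | IsConj t u}.ncard * Nat.card (centralizer ({t} : Set G)) = Nat.card G := by
  have h := NegS.ncard_cls (⊤ : Subgroup G) t
  rw [top_inf_eq, card_top] at h
  rw [← h]
  congr 2
  ext u
  exact ⟨fun hu => let ⟨c, hc⟩ := isConj_iff.1 hu; ⟨c, mem_top c, hc⟩, fun ⟨c, _, hc⟩ => isConj_iff.2 ⟨c, hc⟩⟩

theorem ncard_conj_le [Finite G] {t : G} {c n : ℕ} (hc : c ≤ Nat.card (centralizer ({t} : Set G)))
    (h : Nat.card G < (n + 1) * c) : {u | IsConj t u}.ncard ≤ n := by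
  rw [← ncard_conj t] at h
  exact Nat.lt_succ_iff.1 (lt_of_mul_lt_mul_right ((Nat.mul_le_mul_left _ hc).trans_lt h) (Nat.zero_le _))

/-- `f : C(x) → H` with kernel in `⟨x⟩`: counting subsets of `C(x)` -/
theorem ncard_le_fib [Finite G] {H : Type*} [Group H] [Finite H] {x : G} (f : centralizer ({x} : Set G) →* H)
    (hf : ∀ g, f g = 1 → (g : G) ∈ zpowers x) {Y : Set G} {r : ℕ}
    (hY : ∀ y ∈ Y, y ∈ centralizer ({x} : Set G) ∧ y ^ r = 1) :
    Y.ncard ≤ {h : H | h ^ r = 1}.ncard * orderOf x := by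
  classical
  rw [← Nat.card_zpowers]
  refine ncard_le_mul (Set.toFinite _) (fun g => if h : g ∈ centralizer ({x} : Set G) then f ⟨g, h⟩ else 1) _
    (fun y hy => ?_) fun y hy y' hy' e => ?_
  · simp only [dif_pos (hY y hy).1, Set.mem_ofPred_eq]
    rw [← map_pow, show (⟨y, (hY y hy).1⟩ : centralizer ({x} : Set G)) ^ r = 1 from Subtype.ext (hY y hy).2, map_one]
  · simp only [dif_pos (hY y hy).1, dif_pos (hY y' hy').1] at e
    exact hf (⟨y, (hY y hy).1⟩⁻¹ * ⟨y', (hY y' hy').1⟩) (by rw [map_mul, map_inv, e, inv_mul_cancel])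

/-- the same for `r` prime to the order of `x` -/
theorem ncard_le_inj {H : Type*} [Group H] [Finite H] {x : G} (f : centralizer ({x} : Set G) →* H)
    (hf : ∀ g, f g = 1 → (g : G) ∈ zpowers x) {Y : Set G} {r : ℕ} (hr : Nat.Coprime r (orderOf x))
    (hY : ∀ y ∈ Y, y ∈ centralizer ({x} : Set G) ∧ y ^ r = 1) :
    Y.ncard ≤ {h : H | h ^ r = 1}.ncard := by
  classical
  refine Set.ncard_le_ncard_of_injOn (fun g => if h : g ∈ centralizer ({x} : Set G) then f ⟨g, h⟩ else 1)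
    (fun y hy => ?_) (fun y hy y' hy' e => ?_) (Set.toFinite _)
  · simp only [dif_pos (hY y hy).1, Set.mem_ofPred_eq]
    rw [← map_pow, show (⟨y, (hY y hy).1⟩ : centralizer ({x} : Set G)) ^ r = 1 from Subtype.ext (hY y hy).2, map_one]
  · simp only [dif_pos (hY y hy).1, dif_pos (hY y' hy').1] at e
    have h1 : y⁻¹ * y' ∈ zpowers x :=
      hf (⟨y, (hY y hy).1⟩⁻¹ * ⟨y', (hY y' hy').1⟩) (by rw [map_mul, map_inv, e, inv_mul_cancel])
    have h2 : Commute y (y⁻¹ * y') := by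
      obtain ⟨i, hi⟩ := h1
      rw [← hi]
      exact (show Commute y x from mem_centralizer_singleton_iff.1 (hY y hy).1).zpow_right i
    have h3 : (y⁻¹ * y') ^ r = 1 := by
      have h4 := h2.mul_pow r
      rwa [mul_inv_cancel_left, (hY y hy).2, (hY y' hy').2, one_mul, eq_comm] at h4
    exact inv_mul_eq_one.1 (orderOf_eq_one_iff.1 (Nat.eq_one_of_dvd_coprimes hr (orderOf_dvd_of_pow_eq_one h3)
      (orderOf_dvd_of_mem_zpowers h1)))

/-- an element normalising `⟨x⟩` -/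
theorem exists_conj_pow [Finite G] {x g : G} (hg : g ∈ normalizer ((zpowers x : Subgroup G) : Set G)) :
    ∃ i < orderOf x, g * x * g⁻¹ = x ^ i := by
  classical
  have h := (mem_normalizer_iff.1 hg x).1 (mem_zpowers x)
  rw [mem_zpowers_iff_mem_range_orderOf, Finset.mem_image] at h
  obtain ⟨i, hi, e⟩ := h
  exact ⟨i, Finset.mem_range.1 hi, e.symm⟩

theorem conj_iter {x g : G} {i : ℕ} (h : g * x * g⁻¹ = x ^ i) (k : ℕ) : g ^ k * x * (g ^ k)⁻¹ = x ^ i ^ k := by
  induction k with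
  | zero => simp
  | succ k ih =>
    calc g ^ (k + 1) * x * (g ^ (k + 1))⁻¹ = g * (g ^ k * x * (g ^ k)⁻¹) * g⁻¹ := by rw [pow_succ']; group
      _ = x ^ i ^ (k + 1) := by rw [ih, ← conj_pow, h, ← pow_mul, pow_succ']

/-- `g ^ k = 1` and `g x g⁻¹ = x ^ i` give `i ^ k ≡ 1`. -/
theorem conj_mod {x g : G} {i k : ℕ} (h : g * x * g⁻¹ = x ^ i) (hk : g ^ k = 1) : i ^ k ≡ 1 [MOD orderOf x] := by
  have h1 := conj_iter h k
  rw [hk, one_mul, inv_one, mul_one] at h1
  exact pow_eq_pow_iff_modEq.1 (by rw [← h1, pow_one])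

/-- elements of order 3 normalising a group of order 3 or 5 -/
theorem three_mem [Finite G] {x g : G} (hx : orderOf x = 3 ∨ orderOf x = 5)
    (hg : g ∈ normalizer ((zpowers x : Subgroup G) : Set G)) (h3 : g ^ 3 = 1) : g ∈ centralizer ({x} : Set G) := by
  obtain ⟨i, hi, e⟩ := exists_conj_pow hg
  have h := conj_mod e h3
  have h1 : i = 1 := by
    rcases hx with hx | hx <;> rw [hx] at hi h <;> interval_cases i <;> simp_all [Nat.ModEq]
  rw [h1, pow_one] at e
  exact mem_centralizer_singleton_iff.2 (mul_inv_eq_iff_eq_mul.1 e)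

/-- involutions normalising a group of order 3 or 5 -/
theorem two_mem [Finite G] {x g : G} (hx : orderOf x = 3 ∨ orderOf x = 5)
    (hg : g ∈ normalizer ((zpowers x : Subgroup G) : Set G)) (h2 : g ^ 2 = 1) :
    g ∈ centralizer ({x} : Set G) ∨ g * x * g⁻¹ = x⁻¹ := by
  obtain ⟨i, hi, e⟩ := exists_conj_pow hg
  have h := conj_mod e h2
  have h1 : i = 1 ∨ i + 1 = orderOf x := by
    rcases hx with hx | hx <;> rw [hx] at hi h ⊢ <;> interval_cases i <;> simp_all [Nat.ModEq]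
  rcases h1 with h1 | h1
  · rw [h1, pow_one] at e
    exact Or.inl (mem_centralizer_singleton_iff.2 (mul_inv_eq_iff_eq_mul.1 e))
  · refine Or.inr (e.trans (eq_inv_of_mul_eq_one_left ?_))
    rw [← pow_succ, h1, pow_orderOf_eq_one]

/-- the elements centralising or inverting `x` -/
def Ext (x : G) : Subgroup G where
  carrier := {g | g * x * g⁻¹ = x ∨ g * x * g⁻¹ = x⁻¹}
  one_mem' := Or.inl (by simp)
  mul_mem' := by
    intro a b ha hb
    have e : a * b * x * (a * b)⁻¹ = a * (b * x * b⁻¹) * a⁻¹ := by group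
    have e' : a * x⁻¹ * a⁻¹ = (a * x * a⁻¹)⁻¹ := by group
    show _ ∨ _
    rw [e]
    rcases hb with hb | hb <;> rcases ha with ha | ha <;> simp only [hb, e', ha, inv_inv, true_or, or_true]
  inv_mem' := by
    intro a ha
    show _ ∨ _
    rcases ha with ha | ha
    · left
      calc a⁻¹ * x * a⁻¹⁻¹ = a⁻¹ * (a * x * a⁻¹) * a := by rw [ha, inv_inv]
        _ = x := by group
    · right
      calc a⁻¹ * x * a⁻¹⁻¹ = a⁻¹ * (a * x * a⁻¹)⁻¹ * a := by rw [ha, inv_inv, inv_inv]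
        _ = x⁻¹ := by group

theorem card_Ext [Finite G] {x : G} (hx : x ≠ x⁻¹) :
    Nat.card (Ext x) ∣ 2 * Nat.card (centralizer ({x} : Set G)) := by
  rw [← Set.ncard_pair hx]
  refine card_dvd_mul ?_ ?_
  · rintro a ha y (rfl | rfl)
    · exact ha
    · have e' : a * x⁻¹ * a⁻¹ = (a * x * a⁻¹)⁻¹ := by group
      rcases ha with ha | ha
      · right; rw [e', ha]; rfl
      · left; rw [e', ha, inv_inv]
  · rintro y (rfl | rfl)
    · exact card_dvd_of_le inf_le_right
    · refine card_dvd_of_le fun g hg => mem_centralizer_singleton_iff.2 ?_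
      exact (Commute.inv_right_iff.1 (mem_centralizer_singleton_iff.1 hg.2)).eq

/-- If all automorphisms of `H` are inner and `Z(H) = 1`, the involutions inverting `x` are few. -/
theorem ncard_inv [Finite G] {H : Type*} [Group H] [Finite H] {x : G} (f : centralizer ({x} : Set G) →* H)
    (hf : ∀ g, f g = 1 ↔ (g : G) ∈ zpowers x) (hs : Function.Surjective f)
    (hi : ∀ α : MulAut H, ∃ k : H, α = MulAut.conj k) (hz : center H = ⊥) {Y : Set G}
    (hY : ∀ y ∈ Y, y * y = 1 ∧ y * x * y⁻¹ = x⁻¹) : Y.ncard ≤ {h : H | h ^ 2 = 1}.ncard * orderOf x := by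
  classical
  rcases Y.eq_empty_or_nonempty with rfl | ⟨t, ht⟩
  · simp
  obtain ⟨tt, tx⟩ := hY t ht
  have ti : t⁻¹ = t := inv_eq_of_mul_eq_one_left tt
  let κ : centralizer ({x} : Set G) →* centralizer ({x} : Set G) :=
    ((MulAut.conj t).toMonoidHom.comp (Subgroup.subtype _)).codRestrict _ fun c => by
      rw [mem_centralizer_singleton_iff]
      have h1 : Commute (c : G) x := mem_centralizer_singleton_iff.1 c.2
      have h2 : x = t * x⁻¹ * t⁻¹ := by rw [← tx, ti]; calc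
        x = (t * t) * x * (t * t) := by rw [tt, one_mul, mul_one]
        _ = _ := by group
      show t * c * t⁻¹ * x = x * (t * c * t⁻¹)
      calc t * c * t⁻¹ * x = t * c * t⁻¹ * (t * x⁻¹ * t⁻¹) := by rw [← h2]
        _ = t * (c * x⁻¹) * t⁻¹ := by group
        _ = t * x⁻¹ * t⁻¹ * (t * c * t⁻¹) := by rw [h1.inv_right.eq]; group
        _ = _ := by rw [← h2]
  have κv : ∀ c, (κ c : G) = t * c * t⁻¹ := fun _ => rfl
  have κκ : ∀ c, κ (κ c) = c := fun c => Subtype.ext (by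
    rw [κv, κv, ti]
    calc t * (t * c * t) * t = (t * t) * c * (t * t) := by group
      _ = c := by rw [tt, one_mul, mul_one])
  have hle : f.ker ≤ (f.comp κ).ker := by
    intro c hc
    obtain ⟨i, hi⟩ := (hf c).1 hc
    refine (hf _).2 ⟨-i, ?_⟩
    rw [κv, ← hi]
    show x ^ (-i) = t * x ^ i * t⁻¹
    rw [← conj_zpow, tx, inv_zpow']
  let α : H →* H := f.liftOfSurjective hs ⟨f.comp κ, hle⟩
  have hα : ∀ c, α (f c) = f (κ c) := fun c => f.liftOfRightInverse_comp_apply _ _ ⟨f.comp κ, hle⟩ c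
  have αα : ∀ h, α (α h) = h := fun h => by
    obtain ⟨c, rfl⟩ := hs h
    rw [hα, hα, κκ]
  obtain ⟨k, hk⟩ := hi { toFun := α, invFun := α, left_inv := αα, right_inv := αα, map_mul' := α.map_mul }
  have hk' : ∀ h, α h = k * h * k⁻¹ := fun h => congrArg (fun β : MulAut H => β h) hk
  have kk : k * k = 1 := by
    rw [← mem_bot, ← hz, mem_center_iff]
    intro h
    have h1 := αα h
    rw [hk', hk'] at h1
    calc h * (k * k) = k * (k * h * k⁻¹) * k⁻¹ * (k * k) := by rw [h1]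
      _ = _ := by group
  have hm : ∀ y ∈ Y, y * t ∈ centralizer ({x} : Set G) := fun y hy => by
    rw [mem_centralizer_singleton_iff]
    calc y * t * x = y * (t * x * t⁻¹) * t := by group
      _ = (y * x * y⁻¹)⁻¹ * (y * t) := by rw [tx]; group
      _ = _ := by rw [(hY y hy).2, inv_inv]
  rw [← Nat.card_zpowers, ← Set.ncard_image_of_injective Y (mul_left_injective t)]
  refine ncard_le_mul (Set.toFinite _) (fun g => if h : g ∈ centralizer ({x} : Set G) then f ⟨g, h⟩ * k else 1) _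
    ?_ ?_
  · rintro _ ⟨y, hy, rfl⟩
    simp only [dif_pos (hm y hy), Set.mem_ofPred_eq]
    have h1 : (⟨y * t, hm y hy⟩ : centralizer ({x} : Set G)) * κ ⟨y * t, hm y hy⟩ = 1 := Subtype.ext (by
      show y * t * (t * (y * t) * t⁻¹) = 1
      calc y * t * (t * (y * t) * t⁻¹) = y * (t * t) * y := by group
        _ = 1 := by rw [tt, mul_one, (hY y hy).1])
    have h2 := congrArg f h1
    rw [map_mul, map_one, ← hα, hk'] at h2
    generalize f ⟨y * t, hm y hy⟩ = u at h2
    calc (u * k) ^ 2 = u * (k * u * k⁻¹) * (k * k) := by rw [pow_two]; group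
      _ = 1 := by rw [h2, kk, one_mul]
  · rintro _ ⟨y, hy, rfl⟩ _ ⟨y', hy', rfl⟩ e
    simp only [dif_pos (hm y hy), dif_pos (hm y' hy'), mul_left_inj] at e
    exact (hf (⟨_, hm y hy⟩⁻¹ * ⟨_, hm y' hy'⟩)).1 (by rw [map_mul, map_inv, e, inv_mul_cancel])

end Cfsg.Agent.SP.Mon.Odd
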