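import Cfsg.Agent.SP.Mon.Odd.N3C
import Cfsg.Agent.H777.M5.Real
import Cfsg.Agent.H411.M5.Abel
import Cfsg.Agent.H555.MG.He7
import Cfsg.Agent.H711.RM.SevenFree
import Cfsg.Agent.SigZeroHN.Main

/-! # S5755, the Monster: the boxes `L p`, `p ≥ 5` (helper22) -/

set_option autoImplicit false
set_option maxRecDepth 100000
set_option linter.style.haveILetI false

namespace Cfsg.Agent.SP.Mon.Odd

open Subgroup Cfsg.Agent.SP Cfsg.Agent.SP.Mon.NL
open Cfsg.Agent.BpSpor.MBigModel (MG)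
open Cfsg.Agent.LThreeB.Row (TA)
open Cfsg.Agent.LThreeMB (XX Zx)
open Cfsg.Agent.H995.CopEngine (AllKnown)

theorem strip {n c q k : ℕ} (hq : q.Prime) (hn : ¬ q ∣ n) (h : n ∣ c * q ^ k) : n ∣ c :=
  (((Nat.Prime.coprime_iff_not_dvd hq).2 hn).symm.pow_right k).dvd_of_dvd_mul_right h

/-- fixed points of an element of prime order -/
theorem no_prime (hK : AllKnown.{0}) {A V : Subgroup MG} (hAV : A ≤ normalizer (V : Set MG)) {p w q : ℕ}
    (hp : p.Prime) (hV : Nat.card V = p ^ w) (hq : q.Prime) (hq2 : q ≠ 2)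
    (h : ∀ e ∈ tabE ++ tabO, e.1 = q → ∀ j ≤ w, p ^ j ∣ e.2 → p ^ w % q ≠ p ^ j % q) : ¬ q ∣ Nat.card A := by
  have := BpSpor.MBigModel.finite
  intro hd
  obtain ⟨s, hs, ho, -⟩ := NegS.exists_sub hq hd
  obtain ⟨c, h1, h2⟩ := cent_all hK hq hq2 ho
  have h3 := NegS.card_cent_modEq (N := V) (x := s) (k := 1) hq (by rw [pow_one, ← ho, pow_orderOf_eq_one]) (hAV hs)
  obtain ⟨j, hj, e⟩ := (Nat.dvd_prime_pow hp).1
    (hV ▸ card_dvd_of_le (inf_le_left : V ⊓ centralizer ({s} : Set MG) ≤ V))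
  rw [hV, e] at h3
  exact h _ h1 rfl j hj (e ▸ (card_dvd_of_le inf_le_right).trans h2) h3

theorem kill (hK : AllKnown.{0}) {A B V : Subgroup MG} (h : IsPair A B) (hAV : A ≤ normalizer (V : Set MG)) {x : MG}
    (hx : x ∈ V) (h1 : x ≠ 1) {c v : ℕ} (hc : Nat.card (A ⊓ centralizer ({x} : Set MG) : Subgroup MG) ∣ c)
    (hv : Nat.card V ≤ v) (hn : 0 < c ∧ (v - 1) * c ≤ 56 * 10 ^ 12) : False := by
  have := BpSpor.MBigModel.finite
  exact absurd ((NegS.card_le_one hAV hx h1).trans ((Nat.mul_le_mul (Nat.sub_le_sub_right hv 1)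
    (Nat.le_of_dvd hn.1 hc)).trans hn.2)) (not_le.2 (boxU' hK h))

theorem MinInv.le_cent {p : ℕ} {A V : Subgroup MG} (h : MinInv p A V) {x : MG} (hx : x ∈ V) :
    V ≤ centralizer ({x} : Set MG) := fun v hv => mem_centralizer_singleton_iff.2 (h.comm v hv x hx)

theorem big (hK : AllKnown.{0}) {p : ℕ} (hp : p.Prime) (h11 : 11 ≤ p) : BoxL p := by
  have := BpSpor.MBigModel.finite
  intro A B V h hV
  obtain ⟨x, hx, h1⟩ := NegS.exists_ne_one hV.ne_bot
  have h2 := cent_exact hK hp h11 (hV.orderOf_eq hp hx h1)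
  have h3 : ∀ e ∈ [(11, 11 * 95040), (13, 73008), (13, 52728), (17, 168 * 17), (19, 60 * 19), (23, 24 * 23),
      (29, 29 * 3), (31, 6 * 31), (41, 41), (47, 47 * 2), (59, 59), (71, 71)],
      0 < e.2 ∧ (e.2 - 1) * e.2 ≤ 56 * 10 ^ 12 := by decide +kernel
  exact kill hK h hV.le_normalizer hx h1 (card_dvd_of_le inf_le_right) (card_le_of_le (MinInv.le_cent hV hx)) (h3 _ h2)

theorem seven (hK : AllKnown.{0}) : BoxL 7 := by
  have := BpSpor.MBigModel.finite
  have hp : Nat.Prime 7 := by norm_num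
  haveI := Fact.mk hp
  intro A B V h hV
  obtain ⟨x, hx, h1⟩ := NegS.exists_ne_one hV.ne_bot
  obtain ⟨w, hw⟩ := hV.isPGroup.exists_card_eq
  obtain ⟨c, h2, h3⟩ := cent_all hK hp (by norm_num) (hV.orderOf_eq hp hx h1)
  have h4 : Nat.card (A ⊓ centralizer ({x} : Set MG) : Subgroup MG) ∣ c := (card_dvd_of_le inf_le_right).trans h3
  have h5 : 7 ^ w ∣ c := hw ▸ (card_dvd_of_le (MinInv.le_cent hV hx)).trans h3
  have h6 : w < 7 := by
    by_contra h7
    exact absurd (((pow_dvd_pow 7 (not_lt.1 h7)).trans hw.symm.dvd).trans (card_dvd_NM V)) (by norm_num)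
  have h7 : ∀ e ∈ tabE ++ tabO, e.1 = 7 → ∀ w < 7, 7 ^ w ∣ e.2 →
      (0 < e.2 ∧ (7 ^ w - 1) * e.2 ≤ 56 * 10 ^ 12) ∨ (w = 4 ∧ e.2 = 1659571200 * 17 ^ 1) := by decide +kernel
  rcases h7 _ h2 rfl w h6 h5 with h8 | ⟨rfl, h8⟩
  · exact kill hK h hV.le_normalizer hx h1 h4 hw.le h8
  · have h9 := no_prime hK hV.le_normalizer hp hw (q := 17) (by norm_num) (by norm_num) (by decide +kernel)
    exact kill hK h hV.le_normalizer hx h1 (strip (by norm_num)
      (fun k => h9 (k.trans (card_dvd_of_le inf_le_left))) (h4.trans (dvd_of_eq h8))) hw.le (by norm_num)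

/-- abelian 5-subgroups -/
theorem rank_five {V : Subgroup MG} (hV : IsPGroup 5 V) (hc : ∀ v ∈ V, ∀ w ∈ V, v * w = w * v) :
    Nat.card V ≤ 5 ^ 4 := by
  have := BpSpor.MBigModel.finite
  haveI := Fact.mk Nat.prime_five
  obtain ⟨P, hP⟩ := H777.M5.exists_data
  obtain ⟨T, hT⟩ := hV.exists_le_sylow
  obtain ⟨e⟩ := H411.M5.exists_equiv_sylow P hP T
  rw [← Nat.card_congr (subgroupOfEquivOfLe hT).toEquiv, ← card_map_of_injective (f := e.symm.toMonoidHom) e.symm.injective]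
  refine H411.M5.card_le_of_comm_PG _ ?_
  rintro _ ⟨x, hx, rfl⟩ _ ⟨y, hy, rfl⟩
  rw [← map_mul, ← map_mul, show x * y = y * x from Subtype.ext (hc _ hx _ hy)]

/-- the elements of order 5 -/
theorem five_cases (hK : AllKnown.{0}) {x : MG} (hx : orderOf x = 5) :
    Spor.IsoHN (XX x) ∨ Nat.card (centralizer ({x} : Set MG)) ∣ 13500000000 * 7 ^ 1 ∨
      Nat.card (centralizer ({x} : Set MG)) ∣ 4271484375 * 7 ^ 2 := by
  have := BpSpor.MBigModel.finite
  by_cases he : 2 ∣ Nat.card (centralizer ({x} : Set MG))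
  · obtain ⟨t, ht, htx⟩ := exists_inv he
    rcases MFive.Row.cases_model (CpAutBFive.Closed.coFive CpAutBFive.Final.hJ) CpAutBFive.Closed.hnEight hx
      (H58.MonThirteen.ev_five hx ht htx.symm) with h | ⟨x₀, k, i, hx₀, hfr, hk⟩
    · exact Or.inl h
    · obtain ⟨e⟩ := MFive.exists_cent_equiv Nat.prime_five hx (y := (x₀ : MG)) (by rw [Subgroup.orderOf_coe, hx₀]) hk
      rw [← Nat.card_congr e.toEquiv]
      exact Or.inr (Or.inl ((H58.MonFiveB.card_dvd hx₀ hfr).trans (by norm_num)))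
  have h7 : ¬ 7 ^ (2 + 1) ∣ Nat.card (centralizer ({x} : Set MG)) := fun h => by
    obtain ⟨y, hy, ho, hi⟩ := H555.MG.t7 h
    obtain ⟨t, ht, htx⟩ := H711.RM.i7 (Or.inr rfl) hx ho hi (mem_centralizer_singleton_iff.1 hy).symm
    exact he (two_dvd_of_inv ht htx)
  have key : ∀ e ∈ [(11, 11 * 95040), (13, 73008), (13, 52728), (17, 168 * 17), (19, 60 * 19), (23, 24 * 23),
      (29, 29 * 3), (31, 6 * 31), (41, 41), (47, 47 * 2), (59, 59), (71, 71)],
      (e.1 = 11 → 2 ∣ e.2) ∧ (e.1 = 13 → ¬ 5 ∣ e.2) := by decide +kernel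
  have h11 : ¬ 11 ∣ Nat.card (centralizer ({x} : Set MG)) := fun h => by
    obtain ⟨y, hy, ho, -⟩ := NegS.exists_sub (by norm_num) h
    have h1 := cent_exact hK (by norm_num) le_rfl ho
    obtain ⟨s, hs, hsy⟩ := exists_inv (x := y) ((key _ h1).1 rfl)
    obtain ⟨t, ht, htx⟩ := H8.Mon.five_inv ho hs hsy.symm hx (mem_centralizer_singleton_iff.1 hy).symm
    exact he (two_dvd_of_inv ht htx)
  have h13 : ¬ 13 ∣ Nat.card (centralizer ({x} : Set MG)) := fun h => by
    obtain ⟨y, hy, ho, -⟩ := NegS.exists_sub (by norm_num) h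
    have h1 := cent_exact hK (by norm_num) (by norm_num) ho
    have h2 : 5 ∣ Nat.card (centralizer ({y} : Set MG)) :=
      hx ▸ Subgroup.orderOf_dvd_natCard _ (mem_centralizer_singleton_iff.2 (mem_centralizer_singleton_iff.1 hy).symm)
    exact (key _ h1).2 rfl h2
  have g : Nat.card (centralizer ({x} : Set MG)) ∣ 1 * (7 ^ 6 * (11 ^ 2 * (13 ^ 3 * (5 ^ 9 * 3 ^ 7)))) := by
    rw [one_mul]; exact five_odd hK hx he
  have g := H537.OreM.step (by norm_num) g h7
  have g := H537.OreM.step (j := 0) (by norm_num) g (H537.OreM.no_pow h11)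
  have g := H537.OreM.step (j := 0) (by norm_num) g (H537.OreM.no_pow h13)
  exact Or.inr (Or.inr (g.trans (by norm_num)))

theorem card_A {x : MG} (hx : orderOf x = 5) (h : Spor.IsoHN (XX x)) :
    Nat.card (centralizer ({x} : Set MG)) = 5 * 273030912000000 := by
  have := BpSpor.MBigModel.finite
  obtain ⟨e⟩ := h
  rw [H199.NSmMon.card_XX, hx, Nat.card_congr e.toEquiv, Cfsg.Agent.S1701.result.2]

theorem hn_two : {h : Spor.HN | h ^ 2 = 1}.ncard ≤ 75603376 := by
  have hc := Cfsg.Agent.S1701.result.2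
  haveI : Finite Spor.HN := Nat.finite_of_card_ne_zero (by rw [hc]; norm_num)
  haveI : Fact (Nat.Prime 2) := ⟨Nat.prime_two⟩
  have h1 : {u | IsConj (HN.NormalH.ψ HN.H0Basic.τ) u}.ncard ≤ 1539000 :=
    ncard_conj_le KFacts.HN.Classes.card_centralizer_τ.ge (by rw [hc]; norm_num)
  have h2 : {u | IsConj HN.XWords.W0 u}.ncard ≤ 74064375 :=
    ncard_conj_le KFacts.HN.PCard.card_centralizer.ge (by rw [hc]; norm_num)
  have h3 := Set.ncard_union_le {u | IsConj (HN.NormalH.ψ HN.H0Basic.τ) u} {u | IsConj HN.XWords.W0 u}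
  refine le_trans (Set.ncard_le_ncard
    (t := insert 1 ({u | IsConj (HN.NormalH.ψ HN.H0Basic.τ) u} ∪ {u | IsConj HN.XWords.W0 u}))
    (fun u hu => ?_) (Set.toFinite _)) ((Set.ncard_insert_le _ _).trans (by omega))
  by_cases h : u = 1
  · exact Or.inl h
  · exact Or.inr ((SigZeroHN.card_centralizer_cases (orderOf_eq_prime hu h)).imp (fun k => k.1.symm) fun k => k.1.symm)

/-- the `2A`-involutions inverting an element of order 5 -/
theorem inv_five {x : MG} (hx : orderOf x = 5) : {t : MG | TA t ∧ t * x * t⁻¹ = x⁻¹}.ncard ≤ 2208 := by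
  have := BpSpor.MBigModel.finite
  have key : ∀ t ∈ {t : MG | TA t ∧ t * x * t⁻¹ = x⁻¹}, t ∈ fst {t : MG | TA t} x := by
    rintro t ⟨ht, e⟩
    refine ⟨ht, ?_⟩
    have h1 : t⁻¹ = t := inv_eq_of_mul_eq_one_left (ta_sq ht)
    have h2 : t⁻¹ * x = x ^ 2 * t * (x ^ 2)⁻¹ := by
      have h3 : x ^ 5 = 1 := by rw [← hx, pow_orderOf_eq_one]
      have h4 : t * x ^ 2 * t⁻¹ = (x ^ 2)⁻¹ := by rw [← conj_pow, e, inv_pow]
      calc t⁻¹ * x = t * x * (x ^ 5)⁻¹ := by rw [h1, h3, inv_one, mul_one]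
        _ = t * (x ^ 2)⁻¹ * t⁻¹ * t * (x ^ 2)⁻¹ := by group
        _ = (t * x ^ 2 * t⁻¹)⁻¹ * t * (x ^ 2)⁻¹ := by group
        _ = _ := by rw [h4, inv_inv]
    show TA (t⁻¹ * x)
    rw [h2]
    exact ta_conj ht _
  rcases {t : MG | TA t ∧ t * x * t⁻¹ = x⁻¹}.eq_empty_or_nonempty with h0 | ⟨t, ht⟩
  · rw [h0, Set.ncard_empty]; omega
  have h1 : t * (t⁻¹ * x) = x := mul_inv_cancel_left t x
  have h2 := fst_rest (Y := {t : MG | TA t}) (fun _ h => h) ht.1 (key t ht).2
    (by rw [h1]; intro e; rw [e, orderOf_one] at hx; omega) (by rw [h1, hx]; omega) (by rw [h1, hx]; omega)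
  rw [h1] at h2
  exact (Set.ncard_le_ncard key (Set.toFinite _)).trans h2

/-- **the normaliser of a group of order five of class `5A`** -/
theorem n5a (hK : AllKnown.{0}) {x : MG} (hx : orderOf x = 5) (hN : Spor.IsoHN (XX x)) :
    NoPairIn (normalizer ((zpowers x : Subgroup MG) : Set MG)) := by
  intro A B hA h
  have := BpSpor.MBigModel.finite
  have hc := Cfsg.Agent.S1701.result.2
  haveI : Finite Spor.HN := Nat.finite_of_card_ne_zero (by rw [hc]; norm_num)
  obtain ⟨B', -, h'⟩ := h.exists_max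
  have hC := card_A hx hN
  obtain ⟨e⟩ := hN
  let f : centralizer ({x} : Set MG) →* Spor.HN := e.toMonoidHom.comp (QuotientGroup.mk' (Zx x))
  have hf : ∀ g, f g = 1 → (g : MG) ∈ zpowers x := fun g hg =>
    (LThreeMB.mk_eq_one (mem_centralizer_singleton_iff.1 g.2)).1 ((map_eq_one_iff e e.injective).1 hg)
  have hx1 : x ≠ 1 := fun e => by rw [e, orderOf_one] at hx; omega
  have hle := card_norm_le hA hx1
  rw [hx, hC] at hle
  rcases two_or_three hK h' (hle.trans (by norm_num)) with h2 | h3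
  · have h1 := (ncard_le_inj f hf (r := 2) (by rw [hx]; norm_num)
      (Y := {y | y ∈ centralizer ({x} : Set MG) ∧ y ^ 2 = 1}) fun _ hy => hy).trans hn_two
    have h3 := inv_five hx
    have ha : {y | y ∈ A ∧ TA y}.ncard ≤ 10 ^ 8 := by
      refine le_trans (Set.ncard_le_ncard (t := {y | y ∈ centralizer ({x} : Set MG) ∧ y ^ 2 = 1} ∪
        {t : MG | TA t ∧ t * x * t⁻¹ = x⁻¹}) (fun y hy => ?_) (Set.toFinite _))
        ((Set.ncard_union_le _ _).trans (by omega))
      have h6 : y ^ 2 = 1 := by rw [pow_two, ta_sq hy.2]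
      exact (two_mem (Or.inr hx) (hA hy.1) h6).imp (fun k => ⟨k, h6⟩) fun k => ⟨hy.2, k⟩
    have hE : Nat.card (Ext x) ∣ 2 * (5 * 273030912000000) := hC ▸ card_Ext fun e => by
      have := orderOf_dvd_of_pow_eq_one (show x ^ 2 = 1 by rw [pow_two]; exact mul_eq_one_iff_eq_inv.2 e)
      rw [hx] at this
      omega
    have hb := invol_sq hK (X := Ext x) (Y := {y | y ∈ A ∧ orderOf y = 2 ∧ ¬ TA y}) (fun y hy => by
      have h6 : y ^ 2 = 1 := by rw [← hy.2.1, pow_orderOf_eq_one]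
      exact ⟨(two_mem (Or.inr hx) (hA hy.1) h6).imp
        (fun k => mul_inv_eq_iff_eq_mul.2 (mem_centralizer_singleton_iff.1 k)) id, by rw [← pow_two, h6]⟩) hE
      (by norm_num)
    exact absurd ((two_le h'.pair (by rw [h2]) ha le_rfl).trans
      (Nat.add_le_add_left (Nat.mul_le_mul_right _ hb) _)) (by decide +kernel)
  · have h1 := ncard_le_inj f hf (r := 3) (by rw [hx]; norm_num) (Y := {y | y ∈ A ∧ orderOf y = 3}) fun y hy =>
      have h6 : y ^ 3 = 1 := by rw [← hy.2, pow_orderOf_eq_one]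
      ⟨three_mem (Or.inr hx) (hA hy.1) h6, h6⟩
    exact absurd (three_le hK h'.pair h3 (h1.trans ((Set.ncard_le_card _).trans hc.le))) (by norm_num)

theorem five (hK : AllKnown.{0}) : BoxL 5 := by
  have := BpSpor.MBigModel.finite
  have hp := Nat.prime_five
  haveI := Fact.mk hp
  intro A B V h hV
  have hAV := hV.le_normalizer
  obtain ⟨w, hw⟩ := hV.isPGroup.exists_card_eq
  have h4 : w ≤ 4 := (Nat.pow_le_pow_iff_right (by norm_num)).1 (hw ▸ rank_five hV.isPGroup hV.comm)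
  have h7 : 3 ≤ w → ¬ 7 ∣ Nat.card A := fun h3 => no_prime hK hAV hp hw (by norm_num) (by norm_num) (by
    interval_cases w <;> decide +kernel)
  by_cases hP : ∀ x ∈ V, x ≠ 1 → Spor.IsoHN (XX x)
  swap
  · push Not at hP
    obtain ⟨x, hx, h1, h2⟩ := hP
    have h3 := (five_cases hK (hV.orderOf_eq hp hx h1)).resolve_left h2
    have h5 : Nat.card (A ⊓ centralizer ({x} : Set MG) : Subgroup MG) ∣ _ := card_dvd_of_le inf_le_right
    by_cases h6 : 3 ≤ w
    · have h8 : ¬ 7 ∣ Nat.card (A ⊓ centralizer ({x} : Set MG) : Subgroup MG) := fun k =>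
        h7 h6 (k.trans (card_dvd_of_le inf_le_left))
      have h9 : Nat.card V ≤ 5 ^ 4 := hw.trans_le (Nat.pow_le_pow_right (by norm_num) h4)
      rcases h3 with h3 | h3 <;>
        exact kill hK h hAV hx h1 (strip (by norm_num) h8 (h5.trans h3)) h9 (by norm_num)
    · have h9 : Nat.card V ≤ 5 ^ 2 := hw.trans_le (Nat.pow_le_pow_right (by norm_num) (by omega))
      rcases h3 with h3 | h3 <;> exact kill hK h hAV hx h1 (h5.trans h3) h9 (by norm_num)
  obtain ⟨x, hx, h1⟩ := NegS.exists_ne_one hV.ne_bot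
  have hxo := hV.orderOf_eq hp hx h1
  by_cases hw1 : w ≤ 1
  · refine n5a hK hxo (hP x hx h1) A B ?_ h
    rwa [eq_of_le_of_card_ge (zpowers_le.2 hx) (by
      rw [Nat.card_zpowers, hxo, hw]; exact (Nat.pow_le_pow_right (by norm_num) hw1).trans (by norm_num))]
  have hd := card_dvd_norm hAV fun y hy k => (card_A (hV.orderOf_eq hp hy k) (hP y hy k)).dvd
  have h11 : ¬ 11 ∣ Nat.card A := no_prime hK hAV hp hw (by norm_num) (by norm_num) (by
    have : 2 ≤ w := by omega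
    interval_cases w <;> decide +kernel)
  have h19 : ¬ 19 ∣ Nat.card A := no_prime hK hAV hp hw (by norm_num) (by norm_num) (by
    have : 2 ≤ w := by omega
    interval_cases w <;> decide +kernel)
  rw [hw, show 5 * 273030912000000 = 933120000000 * 7 ^ 1 * 11 ^ 1 * 19 ^ 1 by norm_num, ← mul_assoc, ← mul_assoc] at hd
  replace hd := strip (by norm_num) h11 (strip (by norm_num) h19 hd)
  obtain ⟨B', -, h'⟩ := h.exists_max
  by_cases h3 : 3 ≤ w
  · rw [← mul_assoc] at hd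
    refine false_of_pass hK h' (strip (by norm_num) (h7 h3) hd) ?_ (dvd_zero _) ?_ <;>
      interval_cases w <;> decide +kernel
  · obtain rfl : w = 2 := by omega
    exact false_of_pass hK h' hd (by norm_num) (dvd_zero _) (by decide +kernel)

/-- **The boxes `L p`, `p ≥ 5`.** -/
theorem boxL5 (B : H940.Eng.Base) (_ : BoxU) : ∀ p : ℕ, p.Prime → 5 ≤ p → BoxL p := by
  intro p hp h5
  by_cases h11 : 11 ≤ p
  · exact big (allKnown B) hp h11
  have hc : p = 5 ∨ p = 7 := by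
    have : p < 11 := by omega
    interval_cases p <;> simp_all (config := {decide := true})
  rcases hc with rfl | rfl
  · exact five (allKnown B)
  · exact seven (allKnown B)

end Cfsg.Agent.SP.Mon.Odd
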