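import Cfsg.Agent.SP.Mon.Odd.Gen
import Cfsg.Agent.SP.Mon.NL.BoxU
import Cfsg.Agent.SP.Mon.C2A.Box
import Cfsg.Agent.SP.NTh.CentB

/-! # S5755, the Monster: box `N3C` (helper22)

The normaliser of a group of order three of class `3C` has few involutions and few elements of order three. -/

set_option autoImplicit false
set_option maxRecDepth 100000
set_option linter.style.haveILetI false

namespace Cfsg.Agent.SP.Mon.Odd

open Subgroup Cfsg.Agent.SP Cfsg.Agent.SP.Mon.NL
open Cfsg.Agent.BpSpor.MBigModel (MG)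
open Cfsg.Agent.LThreeB.Row (TA)
open Cfsg.Agent.H995.CopEngine (AllKnown)

theorem hom_exact {G H : Type*} [Group G] [Group H] [Finite G] [Finite H] {x : G}
    (f : centralizer ({x} : Set G) →* H) (hf : ∀ g, f g = 1 → (g : G) ∈ zpowers x)
    (hc : Nat.card (centralizer ({x} : Set G)) = orderOf x * Nat.card H) :
    (∀ g, f g = 1 ↔ (g : G) ∈ zpowers x) ∧ Function.Surjective f := by
  have hz : zpowers x ≤ centralizer ({x} : Set G) := zpowers_le.2 (mem_centralizer_singleton_iff.2 rfl)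
  have h1 : f.ker ≤ (zpowers x).subgroupOf _ := hf
  have h2 : Nat.card ((zpowers x).subgroupOf (centralizer ({x} : Set G))) = orderOf x := by
    rw [Nat.card_congr (subgroupOfEquivOfLe hz).toEquiv, Nat.card_zpowers]
  have h3 := card_le_of_le h1
  have h4 : Nat.card f.range ≤ Nat.card H := card_le_card_group _
  have h5 := f.ker.card_mul_index
  rw [index_ker, hc] at h5
  rw [h2] at h3
  have h6 : 0 < orderOf x := orderOf_pos x
  have h7 : 0 < Nat.card H := Nat.card_pos
  have h8 : orderOf x ≤ Nat.card f.ker := by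
    by_contra h
    have := Nat.mul_le_mul (Nat.succ_le_of_lt (not_le.1 h)) (le_refl (Nat.card H))
    have := Nat.mul_le_mul (le_refl (Nat.card f.ker)) h4
    rw [Nat.succ_mul] at *
    omega
  have h9 : Nat.card f.range = Nat.card H := by
    rw [le_antisymm h3 h8] at h5
    exact Nat.eq_of_mul_eq_mul_left h6 h5
  refine ⟨fun g => ?_, MonoidHom.range_eq_top.1 (eq_top_of_card_eq _ h9)⟩
  rw [← MonoidHom.mem_ker, eq_of_le_of_card_ge h1 (h2.trans_le h8), mem_subgroupOf]

section Th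

open Cfsg.Agent.SP.NTh
open Cfsg.Agent.Th.Word Cfsg.Agent.Th.Gen248 Cfsg.Agent.Th.Hom248 Cfsg.Agent.Th.IndexUpper
open Cfsg.Agent.Th.Base Cfsg.Agent.Th.RelWords Cfsg.Agent.Th.PermTab
open Cfsg.Agent.Th.CStruct Cfsg.Agent.Th.NineAct
open Cfsg.Agent.KFacts.Th.Mask Cfsg.Agent.KFacts.Th.Struct
open Cfsg.Agent.CpAutTh.Data Cfsg.Agent.CpAutTh.Local Cfsg.Agent.BpSpor.ThCent

theorem th_two : {h : Th | h ^ 2 = 1}.ncard ≤ 976841776 := by
  haveI := finTh
  haveI : Fact (Nat.Prime 2) := ⟨Nat.prime_two⟩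
  have h1 : {u | IsConj (gTh 1) u}.ncard ≤ 976841775 :=
    ncard_conj_le (c2 MonsterX.ThOneClass.orderOf_a).ge (by rw [cardTh]; norm_num)
  refine le_trans (Set.ncard_le_ncard (t := insert 1 {u | IsConj (gTh 1) u}) (fun u hu => ?_) (Set.toFinite _))
    ((Set.ncard_insert_le _ _).trans (by omega))
  by_cases h : u = 1
  · exact Or.inl h
  · exact Or.inr (isConj_iff.2 (H495.SprThRep.hone u (orderOf_eq_prime hu h))).symm

theorem th_A : 1404 ≤ Nat.card (centralizer ({xA} : Set Th)) := by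
  haveI := finTh
  have h1 : 108 ∣ Nat.card (centralizer ({xA} : Set Th)) := by
    obtain ⟨f, F⟩ := exists_epi ctx
    obtain ⟨n, h0, -, h2⟩ := card_sx F c33
    rw [card_range F c33 (o33 ctx F) s01 m33 (m := 54) card33] at h2
    refine dvd_trans ?_ (card_subgroup_dvd_card (centralizer ({sx ctx c33} : Set (centralizer ({ev gTh X33} : Set Th)))))
    rw [h2]
    exact Nat.mul_dvd_mul_right (dvd_pow_self 2 h0.ne') 54
  have h2 : 13 ∣ Nat.card (centralizer ({xA} : Set Th)) := by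
    haveI : Fact (Nat.Prime 13) := ⟨by norm_num⟩
    haveI : Fact (Nat.Prime 3) := ⟨Nat.prime_three⟩
    obtain ⟨s, hs⟩ := exists_prime_orderOf_dvd_card' (G := Th) 13 (by rw [cardTh]; norm_num)
    obtain ⟨y, hy⟩ := exists_prime_orderOf_dvd_card' (G := centralizer ({s} : Set Th)) 3 (by rw [c13 hs]; norm_num)
    have h3 : 13 ∣ Nat.card (centralizer ({(y : Th)} : Set Th)) :=
      hs ▸ Subgroup.orderOf_dvd_natCard _ (mem_centralizer_singleton_iff.2 (mem_centralizer_singleton_iff.1 y.2).symm)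
    rcases cls3 (x := y) (by rw [Subgroup.orderOf_coe, hy]) with h | h | h <;> rw [← card_cent_isConj h] at h3
    · exact h3
    · exact absurd (h3.trans cB) (by norm_num)
    · exact absurd (h3.trans cC) (by norm_num)
  exact Nat.le_of_dvd Nat.card_pos (Nat.Coprime.mul_dvd_of_dvd_of_dvd (by norm_num) h1 h2)

theorem th_B : 59049 ≤ Nat.card (centralizer ({xB} : Set Th)) := by
  haveI := finTh
  haveI : Fact (Nat.Prime 3) := ⟨Nat.prime_three⟩
  obtain ⟨P, hP⟩ := Sylow.exists_subgroup_card_pow_prime (G := Th) 3 (n := 10) (by rw [cardTh]; norm_num)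
  obtain ⟨z, hz, h1, h2⟩ := NegS.exists_cent Nat.prime_three (IsPGroup.of_card hP) le_normalizer
    (by rw [hP]; norm_num)
  have h3 := card_dvd_of_le h2
  rw [hP] at h3
  have h4 : z ^ 3 ^ 10 = 1 := by
    rw [← hP]
    exact orderOf_dvd_iff_pow_eq_one.1 (Subgroup.orderOf_dvd_natCard _ hz)
  rw [card_cent_isConj (isB_of_large h1 h4 ((pow_dvd_pow 3 (by norm_num)).trans h3))]
  exact Nat.le_of_dvd Nat.card_pos h3

theorem th_three : {h : Th | h ^ 3 = 1}.ncard ≤ 11 * 10 ^ 13 := by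
  haveI := finTh
  haveI : Fact (Nat.Prime 3) := ⟨Nat.prime_three⟩
  have hA : {u | IsConj xA u}.ncard ≤ 65 * 10 ^ 12 := ncard_conj_le th_A (by rw [cardTh]; norm_num)
  have hB : {u | IsConj xB u}.ncard ≤ 2 * 10 ^ 12 := ncard_conj_le th_B (by rw [cardTh]; norm_num)
  have hC : {u | IsConj xC u}.ncard ≤ 425 * 10 ^ 11 :=
    ncard_conj_le (Nat.le_of_dvd Nat.card_pos dvd_C) (by rw [cardTh]; norm_num)
  have h1 := Set.ncard_union_le {u | IsConj xB u} {u | IsConj xC u}
  have h2 := Set.ncard_union_le {u | IsConj xA u} ({u | IsConj xB u} ∪ {u | IsConj xC u})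
  refine le_trans (Set.ncard_le_ncard (t := insert 1 ({u | IsConj xA u} ∪ ({u | IsConj xB u} ∪ {u | IsConj xC u})))
    (fun u hu => ?_) (Set.toFinite _)) ((Set.ncard_insert_le _ _).trans (by omega))
  by_cases h : u = 1
  · exact Or.inl h
  · exact Or.inr (cls3 (orderOf_eq_prime hu h))

end Th

theorem card_norm_le {G : Type*} [Group G] [Finite G] {x : G} {A : Subgroup G}
    (hA : A ≤ normalizer ((zpowers x : Subgroup G) : Set G)) (hx : x ≠ 1) :
    Nat.card A ≤ (orderOf x - 1) * Nat.card (centralizer ({x} : Set G)) := by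
  have h := NegS.card_le_one hA (mem_zpowers x) hx
  rw [Nat.card_zpowers] at h
  exact h.trans (Nat.mul_le_mul_left _ (card_le_of_le inf_le_right))

/-- the primes `≥ 5` for `|A| ≤ 10 ^ 19` -/
theorem two_or_three (hK : AllKnown.{0}) {A B : Subgroup MG} (h : IsMaxPair A B) (hA : Nat.card A ≤ 10 ^ 19) :
    B.relIndex A = 2 ∨ 3 ∣ B.relIndex A := by
  have := BpSpor.MBigModel.finite
  rcases NegS.two_or_odd h with h2 | ⟨r, hr, h2, hd⟩
  · exact Or.inl h2
  by_cases h3 : r = 3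
  · exact Or.inr (h3 ▸ hd)
  have h5 : 5 ≤ r := by
    by_contra hc
    have := hr.two_le
    have h4 : r = 4 := by omega
    subst h4
    norm_num at hr
  exact absurd (big_le hK h.pair hr h5 hd ((ncard_le_card_subgroup fun _ hx => hx.1).trans hA)) (by norm_num)

theorem n3c (hK : AllKnown.{0}) : BoxN3C := by
  intro x hx A B hA h
  have := BpSpor.MBigModel.finite
  have := NTh.finTh
  obtain ⟨B', -, h'⟩ := h.exists_max
  obtain ⟨f, hf⟩ := C2A.exists_hom_th hx
  obtain ⟨hf', hs⟩ := hom_exact f hf (by rw [hx.1, hx.2, NTh.cardTh])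
  have hx1 : x ≠ 1 := fun e => by have := hx.1; rw [e, orderOf_one] at this; omega
  have hle := card_norm_le hA hx1
  rw [hx.1, hx.2] at hle
  rcases two_or_three hK h' (hle.trans (by norm_num)) with h2 | h3
  · have h1 := ncard_le_fib f hf (r := 2) (Y := {y | y ∈ centralizer ({x} : Set MG) ∧ y ^ 2 = 1}) fun _ hy => hy
    have h3 := ncard_inv f hf' hs KFacts.Th.Main.inner Th.Final.center_eq_bot
      (Y := {y | y * y = 1 ∧ y * x * y⁻¹ = x⁻¹}) fun _ hy => hy
    rw [hx.1] at h1 h3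
    replace h1 := h1.trans (Nat.mul_le_mul_right 3 th_two)
    replace h3 := h3.trans (Nat.mul_le_mul_right 3 th_two)
    have h5 : ∀ Y : Set MG, (∀ y ∈ Y, y ∈ A ∧ orderOf y = 2) → Y.ncard ≤ 6 * 10 ^ 9 := fun Y hY => by
      refine le_trans (Set.ncard_le_ncard (t := {y | y ∈ centralizer ({x} : Set MG) ∧ y ^ 2 = 1} ∪
        {y | y * y = 1 ∧ y * x * y⁻¹ = x⁻¹}) (fun y hy => ?_) (Set.toFinite _))
        ((Set.ncard_union_le _ _).trans (by omega))
      have h6 : y ^ 2 = 1 := by rw [← (hY y hy).2, pow_orderOf_eq_one]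
      rcases two_mem (Or.inl hx.1) (hA (hY y hy).1) h6 with h7 | h7
      · exact Or.inl ⟨h7, h6⟩
      · exact Or.inr ⟨by rw [← pow_two, h6], h7⟩
    exact absurd (two_le h'.pair (by rw [h2]) (h5 _ fun y hy => ⟨hy.1, ta_order hy.2⟩)
      (h5 _ fun y hy => ⟨hy.1, hy.2.1⟩)) (by norm_num)
  · have h1 := ncard_le_fib f hf (r := 3) (Y := {y | y ∈ A ∧ orderOf y = 3}) fun y hy =>
      have h6 : y ^ 3 = 1 := by rw [← hy.2, pow_orderOf_eq_one]
      ⟨three_mem (Or.inl hx.1) (hA hy.1) h6, h6⟩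
    rw [hx.1] at h1
    exact absurd (three_le hK h'.pair h3 (h1.trans (Nat.mul_le_mul_right 3 th_three))) (by norm_num)

/-- **Box `N3C`.** -/
theorem boxN3C (B : H940.Eng.Base) (_ : BoxU) : BoxN3C := n3c (allKnown B)

end Cfsg.Agent.SP.Mon.Odd
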